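import Groth.Agent.TorFlip31.Swap
import Mathlib.Algebra.Category.ModuleCat.Projective
import Mathlib.Algebra.Category.ModuleCat.EnoughInjectives

/-! `Tor` of two module valued functors, through the functorial resolution. -/

set_option autoImplicit false

universe u v w

open CategoryTheory CategoryTheory.Limits MonoidalCategory

namespace Groth.Agent.TorFlip31

variable {R : Type u} [CommRing R] {J : Type w} [Category.{v} J] (a b : J ⥤ ModuleCat.{u} R)

/-- The tensor complex. -/
noncomputable def Cx : ChainComplex (J ⥤ ModuleCat.{u} R) ℕ where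
  X n := a ⊗ (b ⋙ (Res0 R).X n)
  d i j := a ◁ Functor.whiskerLeft b ((Res0 R).d i j)
  shape i j h := by
    ext t : 2
    show a.obj t ◁ ((Res0 R).d i j).app (b.obj t) = 0
    rw [(Res0 R).shape i j h]
    exact MonoidalPreadditive.whiskerLeft_zero
  d_comp_d' i j k _ _ := by
    ext t : 2
    show a.obj t ◁ ((Res0 R).d i j).app (b.obj t) ≫ a.obj t ◁ ((Res0 R).d j k).app (b.obj t) = 0
    rw [← MonoidalCategory.whiskerLeft_comp, ← NatTrans.comp_app, (Res0 R).d_comp_d]
    exact MonoidalPreadditive.whiskerLeft_zero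

/-- `Tor` of two functors. -/
noncomputable abbrev TorF (n : ℕ) : J ⥤ ModuleCat.{u} R :=
  Functor.prod' a b ⋙ Functor.uncurry.obj (Tor (ModuleCat.{u} R) n)

/-- Evaluation of the homology. -/
noncomputable def homologyEval (n : ℕ) :
    (Cx a b).asFunctor ⋙ HomologicalComplex.homologyFunctor _ _ n ≅ (Cx a b).homology n :=
  NatIso.ofComponents (fun j => ((Cx a b).sc n).mapHomologyIso ((evaluation J _).obj j)) fun {i j} f => by
    have h := ShortComplex.homologyMap_mapNatTrans ((Cx a b).sc n)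
      ((evaluation J (ModuleCat.{u} R)).map f)
    rw [← Category.assoc, Iso.eq_comp_inv] at h
    exact h

theorem leftDerived_naturality {X X' : ModuleCat.{u} R} (g : X ⟶ X') {Y Y' : ModuleCat.{u} R} (h : Y ⟶ Y')
    (n : ℕ) :
    (NatTrans.leftDerived ((tensoringLeft (ModuleCat.{u} R)).map g) n).app Y ≫
      (((tensoringLeft (ModuleCat.{u} R)).obj X').leftDerived n).map h ≫
        ((res R Y').isoLeftDerivedObj ((tensoringLeft (ModuleCat.{u} R)).obj X') n).hom =
    ((res R Y).isoLeftDerivedObj ((tensoringLeft (ModuleCat.{u} R)).obj X) n).hom ≫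
      (HomologicalComplex.homologyFunctor _ _ n).map
        ((NatTrans.mapHomologicalComplex ((tensoringLeft (ModuleCat.{u} R)).map g) _).app (res R Y).complex ≫
          (((tensoringLeft (ModuleCat.{u} R)).obj X').mapHomologicalComplex _).map
            ((Res0 R).asFunctor.map h : (res R Y).complex ⟶ (res R Y').complex)) := by
  let φ : (res R Y).complex ⟶ (res R Y').complex := (Res0 R).asFunctor.map h
  have hφ : φ.f 0 ≫ (res R Y').π.f 0 = (res R Y).π.f 0 ≫ h := by
    rw [res_π, res_π]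
    exact (aug R).naturality h
  rw [ProjectiveResolution.isoLeftDerivedObj_hom_naturality h _ _ φ hφ _ n,
    ProjectiveResolution.leftDerived_app_eq _ (res R Y), Category.assoc, Category.assoc,
    Iso.inv_hom_id_assoc, Functor.map_comp]
  rfl

/-- The comparison with the tensor complex. -/
noncomputable def torComplex (n : ℕ) :
    TorF a b n ≅ (Cx a b).asFunctor ⋙ HomologicalComplex.homologyFunctor _ _ n :=
  NatIso.ofComponents
    (fun j => (res R (b.obj j)).isoLeftDerivedObj ((tensoringLeft (ModuleCat.{u} R)).obj (a.obj j)) n)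
    fun {i j} f => (Category.assoc _ _ _).trans ((leftDerived_naturality (a.map f) (b.map f) n).trans
      (congrArg (_ ≫ ·) (congrArg (HomologicalComplex.homologyFunctor _ _ n).map (by
        ext k : 1
        exact (tensorHom_def (a.map f) (((Res0 R).X k).map (b.map f))).symm))))

/-- Homology as a kernel. -/
noncomputable def homologyIsoKernel {C : Type*} [Category C] [Abelian C] (S : ShortComplex C) {Q : C}
    (p : S.X₂ ⟶ Q) [Epi p] (i : Q ⟶ S.X₃) (hg : S.g = p ≫ i) (hp : S.f ≫ p = 0)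
    (hex : (ShortComplex.mk S.f p hp).Exact) : S.homology ≅ kernel i :=
  haveI : Epi (ShortComplex.mk S.f p hp).g := ‹_›
  let hc := hex.gIsCokernel
  have hd : hc.desc (CokernelCofork.ofπ S.g S.zero) = i := by
    rw [← cancel_epi p, ← hg]
    exact hc.fac _ WalkingParallelPair.one
  (ShortComplex.RightHomologyData.mk Q (kernel i) p (kernel.ι i) hp hc
    (by rw [hd]; exact kernel.condition i)
    (KernelFork.IsLimit.ofι _ _ (fun g hg' => kernel.lift i g (by rw [← hd]; exact hg'))
      (fun g hg' => kernel.lift_ι _ _ _)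
      (fun g hg' m hm => by rw [← cancel_mono (kernel.ι i), hm, kernel.lift_ι]))).homologyIso

theorem exact_tensor_dd (n : ℕ) (j : J) :
    Function.Exact ((a.obj j) ◁ ((Res0 R).d (n + 1) n).app (b.obj j)).hom
      ((a.obj j) ◁ (aug R).app ((Kpow R n).obj (b.obj j))).hom := by
  rw [Res0_d]
  exact lTensor_exact (a.obj j) (exact_dd R n (b.obj j)) (surjective_aug R _)

instance epi_tensor_aug (n : ℕ) : Epi (a ◁ π' (b ⋙ Kpow R n)) := by
  haveI : ∀ j, Epi ((a ◁ π' (b ⋙ Kpow R n)).app j) := fun j =>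
    (ModuleCat.epi_iff_surjective _).2 (LinearMap.lTensor_surjective (a.obj j) (surjective_aug R _))
  exact NatTrans.epi_of_epi_app _

theorem tensor_d_aug (n : ℕ) : (Cx a b).d (n + 1) n ≫ a ◁ π' (b ⋙ Kpow R n) = 0 := by
  ext j : 2
  exact ModuleCat.hom_ext (LinearMap.ext fun x => (exact_tensor_dd a b n j).apply_apply_eq_zero x)

theorem tensor_d (n : ℕ) :
    (Cx a b).d (n + 1) n = a ◁ π' (b ⋙ Kpow R (n + 1)) ≫ a ◁ ι' (b ⋙ Kpow R n) := by
  show a ◁ Functor.whiskerLeft b ((Res0 R).d (n + 1) n) = _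
  rw [Res0_d]
  exact MonoidalCategory.whiskerLeft_comp a (π' (b ⋙ Kpow R (n + 1))) (ι' (b ⋙ Kpow R n))

/-- `Tor` in positive degree. -/
noncomputable def homologySucc (m : ℕ) : (Cx a b).homology (m + 1) ≅ T1 a (b ⋙ Kpow R m) :=
  (Cx a b).homologyIsoSc' (m + 2) (m + 1) m (by simp) (by simp) ≪≫
    haveI : Epi (C := J ⥤ ModuleCat.{u} R) (X := ((Cx a b).sc' (m + 2) (m + 1) m).X₂) (a ◁ π' (b ⋙ Kpow R (m + 1))) :=
      epi_tensor_aug a b (m + 1)
    homologyIsoKernel ((Cx a b).sc' (m + 2) (m + 1) m) (a ◁ π' (b ⋙ Kpow R (m + 1)))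
      (a ◁ ι' (b ⋙ Kpow R m)) (tensor_d a b m) (tensor_d_aug a b (m + 1))
      (exact_of_app _ fun j => exact_tensor_dd a b (m + 1) j)

/-- `Tor` in degree zero. -/
noncomputable def homologyZero : (Cx a b).homology 0 ≅ a ⊗ b :=
  (Cx a b).homologyIsoSc' 1 0 0 (by simp) (by simp) ≪≫
    haveI : Epi (C := J ⥤ ModuleCat.{u} R) (X := ((Cx a b).sc' 1 0 0).X₂) (a ◁ π' (b ⋙ Kpow R 0)) :=
      epi_tensor_aug a b 0
    homologyIsoKernel ((Cx a b).sc' 1 0 0) (a ◁ π' (b ⋙ Kpow R 0)) (0 : a ⊗ (b ⋙ Kpow R 0) ⟶ (Cx a b).X 0)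
      ((((Cx a b).shape 0 0 (by simp))).trans comp_zero.symm) (tensor_d_aug a b 0)
      (exact_of_app _ fun j => exact_tensor_dd a b 0 j) ≪≫
    kernelZeroIsoSource

theorem nonempty_torF_swap (n : ℕ) : Nonempty (TorF a b n ≅ TorF b a n) := by
  cases n with
  | zero =>
    exact ⟨torComplex a b 0 ≪≫ homologyEval a b 0 ≪≫ homologyZero a b ≪≫ β_ a b ≪≫
      (torComplex b a 0 ≪≫ homologyEval b a 0 ≪≫ homologyZero b a).symm⟩
  | succ m =>
    obtain ⟨e⟩ := nonempty_swap a b m
    exact ⟨torComplex a b (m + 1) ≪≫ homologyEval a b (m + 1) ≪≫ homologySucc a b m ≪≫ e ≪≫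
      (torComplex b a (m + 1) ≪≫ homologyEval b a (m + 1) ≪≫ homologySucc b a m).symm⟩

theorem nonempty_tor_flip (n : ℕ) :
    Nonempty (Tor (ModuleCat.{u} R) n ≅ (Tor (ModuleCat.{u} R) n).flip) := by
  obtain ⟨e⟩ := nonempty_torF_swap (CategoryTheory.Prod.fst (ModuleCat.{u} R) (ModuleCat.{u} R))
    (CategoryTheory.Prod.snd (ModuleCat.{u} R) (ModuleCat.{u} R)) n
  refine ⟨NatIso.ofComponents (fun M => NatIso.ofComponents (fun N => e.app (M, N)) ?_) ?_⟩
  · intro N N' g
    have h := e.hom.naturality (Prod.mkHom (𝟙 M) g : (M, N) ⟶ (M, N'))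
    simp [Functor.uncurry] at h
    exact Eq.trans (congrArg (· ≫ e.hom.app (M, N')) (Category.id_comp _).symm) h
  · intro M M' f
    ext N : 2
    have h := e.hom.naturality (Prod.mkHom f (𝟙 N) : (M, N) ⟶ (M', N))
    simp [Functor.uncurry] at h
    exact h.trans (congrArg (e.hom.app (M, N) ≫ ·) (Category.id_comp _))

end Groth.Agent.TorFlip31
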