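import Mathlib.CategoryTheory.Monoidal.Tor
import Mathlib.CategoryTheory.Monoidal.FunctorCategory
import Mathlib.CategoryTheory.Abelian.FunctorCategory
import Mathlib.CategoryTheory.Abelian.Refinements
import Mathlib.CategoryTheory.Limits.FunctorCategory.EpiMono
import Mathlib.Algebra.Category.ModuleCat.Monoidal.Closed
import Mathlib.Algebra.Category.ModuleCat.Monoidal.Symmetric
import Mathlib.Algebra.Category.ModuleCat.EpiMono
import Mathlib.Algebra.Category.ModuleCat.LeftResolution
import Mathlib.Algebra.Category.ModuleCat.Abelian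
import Mathlib.Algebra.Homology.Functor
import Mathlib.Algebra.Homology.ShortComplex.ModuleCat
import Mathlib.RingTheory.Flat.Basic
import Mathlib.LinearAlgebra.TensorProduct.RightExactness

/-! The functorial free syzygies of modules. -/

set_option autoImplicit false

universe u

open CategoryTheory CategoryTheory.Limits MonoidalCategory

namespace Groth.Agent.TorFlip31

variable (R : Type u) [CommRing R]

/-- The free module on the underlying set. -/
noncomputable abbrev Fr : ModuleCat.{u} R ⥤ ModuleCat.{u} R := forget _ ⋙ ModuleCat.free R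

/-- The augmentation. -/
noncomputable def aug : Fr R ⟶ 𝟭 _ := (ModuleCat.adj R).counit

instance epi_aug_app (M : ModuleCat.{u} R) : Epi ((aug R).app M) :=
  (ModuleCat.projectiveResolution R).epi_π_app M

instance epi_aug : Epi (aug R) := NatTrans.epi_of_epi_app _

/-- The syzygy. -/
noncomputable def Kf : ModuleCat.{u} R ⥤ ModuleCat.{u} R := kernel (aug R)

/-- Its inclusion. -/
noncomputable def incl : Kf R ⟶ Fr R := kernel.ι (aug R)

theorem incl_aug : incl R ≫ aug R = 0 := kernel.condition _

theorem exact_app (M : ModuleCat.{u} R) :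
    Function.Exact ((incl R).app M).hom ((aug R).app M).hom := by
  have h : (ShortComplex.mk (incl R) (aug R) (incl_aug R)).Exact :=
    ShortComplex.exact_of_f_is_kernel _ (kernelIsKernel _)
  have h' := h.map ((evaluation _ _).obj M)
  rw [ShortComplex.moduleCat_exact_iff_range_eq_ker] at h'
  exact LinearMap.exact_iff.2 h'.symm

theorem injective_incl (M : ModuleCat.{u} R) : Function.Injective ((incl R).app M).hom := by
  haveI : Mono (incl R) := inferInstanceAs (Mono (kernel.ι (aug R)))
  exact (ModuleCat.mono_iff_injective _).1 ((NatTrans.mono_iff_mono_app (incl R)).1 ‹_› M)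

theorem surjective_aug (M : ModuleCat.{u} R) : Function.Surjective ((aug R).app M).hom :=
  (ModuleCat.epi_iff_surjective _).1 inferInstance

instance flat_Fr (M : ModuleCat.{u} R) : Module.Flat R ((Fr R).obj M) :=
  inferInstanceAs (Module.Flat R (M →₀ R))

/-- The iterated syzygies. -/
noncomputable def Kpow : ℕ → (ModuleCat.{u} R ⥤ ModuleCat.{u} R)
  | 0 => 𝟭 _
  | n + 1 => Kpow n ⋙ Kf R

/-- The differential. -/
noncomputable def dd (n : ℕ) : Kpow R (n + 1) ⋙ Fr R ⟶ Kpow R n ⋙ Fr R :=
  Functor.whiskerLeft (Kpow R (n + 1)) (aug R) ≫ Functor.whiskerLeft (Kpow R n) (incl R)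

theorem dd_apply (n : ℕ) (N : ModuleCat.{u} R) (x : (Kpow R (n + 1) ⋙ Fr R).obj N) :
    ((dd R n).app N).hom x =
      ((incl R).app ((Kpow R n).obj N)).hom (((aug R).app ((Kpow R (n + 1)).obj N)).hom x) := rfl

theorem dd_sq (n : ℕ) : dd R (n + 1) ≫ dd R n = 0 := by
  ext N : 2
  refine ModuleCat.hom_ext (LinearMap.ext fun x => ?_)
  show ((dd R n).app N).hom (((dd R (n + 1)).app N).hom x) = 0
  rw [dd_apply, dd_apply]
  exact (congrArg _ ((exact_app R _).apply_apply_eq_zero _)).trans (map_zero _)

/-- The functorial resolution. -/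
noncomputable def Res0 : ChainComplex (ModuleCat.{u} R ⥤ ModuleCat.{u} R) ℕ :=
  ChainComplex.of (fun n => Kpow R n ⋙ Fr R) (dd R) (dd_sq R)

theorem Res0_d (n : ℕ) : (Res0 R).d (n + 1) n = dd R n := by simp [Res0, ChainComplex.of]

theorem exact_dd (n : ℕ) (N : ModuleCat.{u} R) :
    Function.Exact ((dd R n).app N).hom ((aug R).app ((Kpow R n).obj N)).hom := by
  intro x
  refine (exact_app R _ x).trans ⟨?_, ?_⟩
  · rintro ⟨y, rfl⟩
    obtain ⟨z, rfl⟩ := surjective_aug R ((Kpow R (n + 1)).obj N) y
    exact ⟨z, dd_apply R n N z⟩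
  · rintro ⟨z, rfl⟩
    exact ⟨_, (dd_apply R n N z).symm⟩

theorem exact_dd_dd (n : ℕ) (N : ModuleCat.{u} R) :
    Function.Exact ((dd R (n + 1)).app N).hom ((dd R n).app N).hom := by
  intro x
  refine Iff.trans ?_ (exact_dd R (n + 1) N x)
  rw [dd_apply R n N x]
  exact map_eq_zero_iff _ (injective_incl R _)

theorem Res0_d_aug (N : ModuleCat.{u} R) :
    ((Res0 R).asFunctor.obj N).d 1 0 ≫ (aug R).app N = 0 := by
  show ((Res0 R).d 1 0).app N ≫ _ = 0
  rw [Res0_d]
  exact ModuleCat.hom_ext (LinearMap.ext fun x => (exact_dd R 0 N).apply_apply_eq_zero x)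

theorem exactAt_Res0 (N : ModuleCat.{u} R) (n : ℕ) : ((Res0 R).asFunctor.obj N).ExactAt (n + 1) := by
  rw [HomologicalComplex.exactAt_iff' _ (n + 2) (n + 1) n (by simp) (by simp),
    ShortComplex.moduleCat_exact_iff_range_eq_ker]
  show LinearMap.range (((Res0 R).d (n + 2) (n + 1)).app N).hom =
    LinearMap.ker (((Res0 R).d (n + 1) n).app N).hom
  rw [Res0_d, Res0_d]
  exact (LinearMap.exact_iff.1 (exact_dd_dd R n N)).symm

/-- The resolution of a module. -/
noncomputable def res (N : ModuleCat.{u} R) : ProjectiveResolution N where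
  complex := (Res0 R).asFunctor.obj N
  projective _ := inferInstanceAs (Projective ((ModuleCat.free R).obj _))
  π := (ChainComplex.toSingle₀Equiv _ _).symm ⟨(aug R).app N, Res0_d_aug R N⟩
  quasiIso := ⟨fun n => by
    cases n
    · rw [ChainComplex.quasiIsoAt₀_iff, ShortComplex.quasiIso_iff_of_zeros']
      · have hex : (ShortComplex.mk (((Res0 R).asFunctor.obj N).d 1 0) ((aug R).app N)
            (Res0_d_aug R N)).Exact := by
          rw [ShortComplex.moduleCat_exact_iff_range_eq_ker]
          show LinearMap.range (((Res0 R).d 1 0).app N).hom = LinearMap.ker ((aug R).app N).hom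
          rw [Res0_d]
          exact (LinearMap.exact_iff.1 (exact_dd R 0 N)).symm
        refine (ShortComplex.exact_and_epi_g_iff_of_iso ?_).2 ⟨hex, epi_aug_app R N⟩
        exact ShortComplex.isoMk (Iso.refl _) (Iso.refl _) (Iso.refl _)
          ((Category.id_comp _).trans (Category.comp_id _).symm)
          ((Category.id_comp _).trans ((ChainComplex.toSingle₀Equiv_symm_apply_f_zero
            (C := (Res0 R).asFunctor.obj N) ((aug R).app N) (Res0_d_aug R N)).symm.trans
              (Category.comp_id _).symm))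
      all_goals rfl
    · rw [quasiIsoAt_iff_exactAt']
      · apply exactAt_Res0
      · apply ChainComplex.exactAt_succ_single_obj⟩

theorem res_π (N : ModuleCat.{u} R) : (res R N).π.f 0 = (aug R).app N :=
  ChainComplex.toSingle₀Equiv_symm_apply_f_zero (C := (Res0 R).asFunctor.obj N) ((aug R).app N)
    (Res0_d_aug R N)

end Groth.Agent.TorFlip31
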