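import Groth.Agent.TorFlip31.Res

/-! The first torsion functor on pairs of module valued functors, and its symmetry. -/

set_option autoImplicit false

universe u v w

open CategoryTheory CategoryTheory.Limits MonoidalCategory

namespace Groth.Agent.TorFlip31

variable {R : Type u} [CommRing R] {J : Type w} [Category.{v} J]

theorem exact_of_app (S : ShortComplex (J ⥤ ModuleCat.{u} R))
    (h : ∀ j, Function.Exact (S.f.app j).hom (S.g.app j).hom) : S.Exact := by
  rw [S.exact_iff_isZero_homology]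
  refine Functor.isZero _ fun j => IsZero.of_iso ?_ (S.mapHomologyIso ((evaluation J _).obj j)).symm
  rw [← ShortComplex.exact_iff_isZero_homology, ShortComplex.moduleCat_exact_iff_range_eq_ker]
  exact (LinearMap.exact_iff.1 (h j)).symm

variable (a b : J ⥤ ModuleCat.{u} R)

/-- The inclusion of the syzygy. -/
noncomputable abbrev ι' : b ⋙ Kf R ⟶ b ⋙ Fr R := Functor.whiskerLeft b (incl R)

/-- The augmentation. -/
noncomputable abbrev π' : b ⋙ Fr R ⟶ b := Functor.whiskerLeft b (aug R)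

/-- `Tor₁`, as a kernel. -/
noncomputable abbrev T1 : J ⥤ ModuleCat.{u} R := kernel (a ◁ ι' b)

instance mono_free_whiskerLeft : Mono ((a ⋙ Fr R) ◁ ι' b) := by
  haveI : ∀ j, Mono (((a ⋙ Fr R) ◁ ι' b).app j) := fun j =>
    (ModuleCat.mono_iff_injective _).2
      (Module.Flat.lTensor_preserves_injective_linearMap (M := (Fr R).obj (a.obj j)) _
        (injective_incl R (b.obj j)))
  exact NatTrans.mono_of_mono_app _

instance mono_whiskerRight_free : Mono (ι' a ▷ (b ⋙ Fr R)) := by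
  have h := BraidedCategory.braiding_naturality_left (ι' a) (b ⋙ Fr R)
  rw [← Iso.eq_comp_inv, Category.assoc] at h
  rw [h]
  infer_instance

instance epi_whiskerRight (X : J ⥤ ModuleCat.{u} R) : Epi (π' a ▷ X) := by
  haveI : ∀ j, Epi ((π' a ▷ X).app j) := fun j =>
    (ModuleCat.epi_iff_surjective _).2 (LinearMap.rTensor_surjective (X.obj j) (surjective_aug R (a.obj j)))
  exact NatTrans.epi_of_epi_app _

theorem zero_right (X : J ⥤ ModuleCat.{u} R) : ι' a ▷ X ≫ π' a ▷ X = 0 := by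
  ext j : 2
  exact ModuleCat.hom_ext (LinearMap.ext fun x =>
    (rTensor_exact (X.obj j) (exact_app R (a.obj j)) (surjective_aug R (a.obj j))).apply_apply_eq_zero x)

theorem exact_right (X : J ⥤ ModuleCat.{u} R) : (ShortComplex.mk _ _ (zero_right a X)).Exact :=
  exact_of_app _ fun j => rTensor_exact (X.obj j) (exact_app R (a.obj j)) (surjective_aug R (a.obj j))

/-- The symmetric cover of `T1`. -/
noncomputable abbrev W : J ⥤ ModuleCat.{u} R :=
  kernel ((a ⋙ Fr R) ◁ ι' b ≫ π' a ▷ (b ⋙ Fr R))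

/-- The map from the cover. -/
noncomputable def cov : W a b ⟶ T1 a b :=
  kernel.lift _ (kernel.ι _ ≫ π' a ▷ (b ⋙ Kf R))
    (by rw [Category.assoc, ← whisker_exchange]; exact kernel.condition _)

theorem cov_ι : cov a b ≫ kernel.ι _ = kernel.ι _ ≫ π' a ▷ (b ⋙ Kf R) := kernel.lift_ι _ _ _

instance epi_cov : Epi (cov a b) := by
  rw [epi_iff_surjective_up_to_refinements]
  intro A y
  obtain ⟨A', p, hp, x, hx⟩ := surjective_up_to_refinements_of_epi (π' a ▷ (b ⋙ Kf R)) (y ≫ kernel.ι _)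
  refine ⟨A', p, hp, kernel.lift _ x ?_, ?_⟩
  · rw [whisker_exchange, ← reassoc_of% hx, kernel.condition, comp_zero, comp_zero]
  · rw [← cancel_mono (kernel.ι (a ◁ ι' b)), Category.assoc, Category.assoc, cov_ι, kernel.lift_ι_assoc,
      ← hx]

/-- The kernel of `cov`. -/
noncomputable def rel : (a ⋙ Kf R) ⊗ (b ⋙ Kf R) ⟶ W a b :=
  kernel.lift _ (ι' a ▷ (b ⋙ Kf R))
    (by rw [← whisker_exchange_assoc, zero_right, comp_zero])

theorem rel_ι : rel a b ≫ kernel.ι _ = ι' a ▷ (b ⋙ Kf R) := kernel.lift_ι _ _ _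

theorem rel_cov : rel a b ≫ cov a b = 0 := by
  rw [← cancel_mono (kernel.ι (a ◁ ι' b)), Category.assoc, cov_ι, ← Category.assoc, rel_ι, zero_right,
    zero_comp]

theorem exact_cov : (ShortComplex.mk _ _ (rel_cov a b)).Exact := by
  rw [ShortComplex.exact_iff_exact_up_to_refinements]
  intro A x hx
  dsimp at x hx
  obtain ⟨A', p, hp, z, hz⟩ := (exact_right a (b ⋙ Kf R)).exact_up_to_refinements (x ≫ kernel.ι _) (by
    dsimp
    rw [Category.assoc, ← cov_ι, ← Category.assoc, hx, zero_comp])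
  dsimp at z hz
  refine ⟨A', p, hp, z, ?_⟩
  dsimp
  rw [← cancel_mono (kernel.ι ((a ⋙ Fr R) ◁ ι' b ≫ π' a ▷ (b ⋙ Fr R))), Category.assoc, Category.assoc,
    rel_ι]
  exact hz

/-- The other coordinate on the cover. -/
noncomputable def other : W a b ⟶ (a ⋙ Kf R) ⊗ (b ⋙ Fr R) :=
  haveI : Mono (ShortComplex.mk _ _ (zero_right a (b ⋙ Fr R))).f := mono_whiskerRight_free a b
  (exact_right a (b ⋙ Fr R)).lift (kernel.ι _ ≫ (a ⋙ Fr R) ◁ ι' b)
    (by dsimp; rw [Category.assoc]; exact kernel.condition _)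

theorem other_comp : other a b ≫ ι' a ▷ (b ⋙ Fr R) = kernel.ι _ ≫ (a ⋙ Fr R) ◁ ι' b :=
  haveI : Mono (ShortComplex.mk _ _ (zero_right a (b ⋙ Fr R))).f := mono_whiskerRight_free a b
  (exact_right a (b ⋙ Fr R)).lift_f _ _

/-- The symmetry of the cover. -/
noncomputable def sw : W a b ⟶ W b a :=
  kernel.lift _ (other a b ≫ (β_ (a ⋙ Kf R) (b ⋙ Fr R)).hom) (by
    rw [Category.assoc, ← BraidedCategory.braiding_naturality_left_assoc, reassoc_of% (other_comp a b),
      BraidedCategory.braiding_naturality_right_assoc, zero_right, comp_zero, comp_zero])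

theorem sw_ι : sw a b ≫ kernel.ι _ = other a b ≫ (β_ (a ⋙ Kf R) (b ⋙ Fr R)).hom := kernel.lift_ι _ _ _

theorem sw_sw : sw a b ≫ sw b a = 𝟙 _ := by
  rw [← cancel_mono (kernel.ι ((a ⋙ Fr R) ◁ ι' b ≫ π' a ▷ (b ⋙ Fr R))), Category.id_comp, Category.assoc,
    sw_ι, ← cancel_mono ((a ⋙ Fr R) ◁ ι' b), Category.assoc, Category.assoc,
    ← BraidedCategory.braiding_naturality_left, reassoc_of% (other_comp b a), reassoc_of% (sw_ι a b),
    ← BraidedCategory.braiding_naturality_left_assoc, SymmetricCategory.symmetry, Category.comp_id,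
    other_comp]

theorem rel_other : rel a b ≫ other a b = (a ⋙ Kf R) ◁ ι' b := by
  rw [← cancel_mono (ι' a ▷ (b ⋙ Fr R)), Category.assoc, other_comp, ← Category.assoc, rel_ι,
    whisker_exchange]

theorem rel_sw_cov : rel a b ≫ sw a b ≫ cov b a = 0 := by
  rw [← cancel_mono (kernel.ι (b ◁ ι' a)), Category.assoc, Category.assoc, cov_ι, reassoc_of% (sw_ι a b),
    reassoc_of% (rel_other a b), BraidedCategory.braiding_naturality_right_assoc, zero_right, comp_zero,
    zero_comp]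

/-- The symmetry map of `T1`. -/
noncomputable def flipT1 : T1 a b ⟶ T1 b a :=
  haveI : Epi (ShortComplex.mk _ _ (rel_cov a b)).g := epi_cov a b
  (exact_cov a b).desc (sw a b ≫ cov b a) (rel_sw_cov a b)

theorem cov_flipT1 : cov a b ≫ flipT1 a b = sw a b ≫ cov b a :=
  haveI : Epi (ShortComplex.mk _ _ (rel_cov a b)).g := epi_cov a b
  (exact_cov a b).g_desc _ _

/-- The symmetry of `T1`. -/
noncomputable def swapT1 : T1 a b ≅ T1 b a where
  hom := flipT1 a b
  inv := flipT1 b a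
  hom_inv_id := by
    rw [← cancel_epi (cov a b), reassoc_of% (cov_flipT1 a b), cov_flipT1, reassoc_of% (sw_sw a b),
      Category.comp_id]
  inv_hom_id := by
    rw [← cancel_epi (cov b a), reassoc_of% (cov_flipT1 b a), cov_flipT1, reassoc_of% (sw_sw b a),
      Category.comp_id]

/-- Moving a syzygy from the second variable to the first. -/
noncomputable def shiftT1 : T1 a (b ⋙ Kf R) ≅ T1 (a ⋙ Kf R) b :=
  swapT1 a (b ⋙ Kf R) ≪≫
    kernel.mapIso _ (ι' a ▷ (b ⋙ Kf R)) (β_ _ _) (β_ _ _)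
      (BraidedCategory.braiding_naturality_right _ _) ≪≫
    (kernelCompMono (ι' a ▷ (b ⋙ Kf R)) ((a ⋙ Fr R) ◁ ι' b)).symm ≪≫
    kernelIsoOfEq (whisker_exchange (ι' a) (ι' b)).symm ≪≫
    kernelCompMono ((a ⋙ Kf R) ◁ ι' b) (ι' a ▷ (b ⋙ Fr R))

theorem nonempty_shift (m : ℕ) : ∀ k : ℕ, Nonempty (T1 (a ⋙ Kpow R k) (b ⋙ Kpow R m) ≅ T1 (a ⋙ Kpow R (k + m)) b) := by
  induction m with
  | zero => exact fun k => ⟨Iso.refl _⟩
  | succ m ih =>
    intro k
    obtain ⟨e⟩ := ih (k + 1)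
    rw [show k + (m + 1) = k + 1 + m by omega]
    exact ⟨shiftT1 (a ⋙ Kpow R k) (b ⋙ Kpow R m) ≪≫ e⟩

theorem nonempty_swap (m : ℕ) : Nonempty (T1 a (b ⋙ Kpow R m) ≅ T1 b (a ⋙ Kpow R m)) := by
  obtain ⟨e⟩ := nonempty_shift a b m 0
  rw [Nat.zero_add] at e
  exact ⟨e ≪≫ swapT1 (a ⋙ Kpow R m) b⟩

end Groth.Agent.TorFlip31
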